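import Mathlib
import Groth.Prelude.Def_W4bk4grassmannianPl

set_option autoImplicit false
universe u

namespace Groth.Agent.Lib.Helper5.Plucker
open Matrix

variable {K : Type u} [Field K] {d n : ℕ}

/-- a full-column-rank `n × d` matrix has an invertible `d × d` row-submatrix -/
theorem exists_minor_ne_zero (A : Matrix (Fin n) (Fin d) K) (hA : LinearIndependent K A.transpose) :
    ∃ θ : Fin d → Fin n, (A.submatrix θ id).det ≠ 0 := by
  have h1 : Aᵀ.rank = d := by
    have := LinearIndependent.rank_matrix (M := Aᵀ) hA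
    simpa using this
  rw [Matrix.rank_transpose, Matrix.rank_eq_finrank_span_row] at h1
  obtain ⟨f, hf, -, hfi⟩ := Submodule.exists_fun_fin_finrank_span_eq K (Set.range A.row)
  choose θ hθ using hf
  refine ⟨fun i => θ (Fin.cast h1.symm i), ?_⟩
  have hli : LinearIndependent K (A.submatrix (fun i => θ (Fin.cast h1.symm i)) id).row := by
    have : (A.submatrix (fun i => θ (Fin.cast h1.symm i)) id).row = f ∘ (Fin.cast h1.symm) := by
      funext i
      simp only [Function.comp]
      rw [← hθ]
      rfl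
    rw [this]
    exact hfi.comp _ (Fin.cast_injective _)
  rw [Matrix.linearIndependent_rows_iff_isUnit, Matrix.isUnit_iff_isUnit_det] at hli
  exact hli.ne_zero

/-- proportionality of minors extends from strictly increasing index tuples to all tuples -/
theorem minors_all (A A' : Matrix (Fin n) (Fin d) K) (c : K)
    (h : ∀ θ : W4bk4grassmannian.Idx d n, (A.submatrix θ.1 id).det = c * (A'.submatrix θ.1 id).det)
    (θ : Fin d → Fin n) : (A.submatrix θ id).det = c * (A'.submatrix θ id).det := by
  by_cases hinj : Function.Injective θ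
  · -- sort
    set σ := Tuple.sort θ with hσ
    have hmono : Monotone (θ ∘ σ) := Tuple.monotone_sort θ
    have hsm : StrictMono (θ ∘ σ) := hmono.strictMono_of_injective (hinj.comp σ.injective)
    have key := h ⟨θ ∘ σ, hsm⟩
    have e1 : ∀ M : Matrix (Fin n) (Fin d) K, M.submatrix (θ ∘ σ) id
        = (M.submatrix θ id).submatrix σ id := fun M => rfl
    simp only [e1, Matrix.det_permute] at key
    have hs : ((Equiv.Perm.sign σ : ℤ) : K) ≠ 0 := by
      rcases Int.units_eq_one_or (Equiv.Perm.sign σ) with h | h <;> simp [h]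
    have : ((Equiv.Perm.sign σ : ℤ) : K) * (A.submatrix θ id).det =
        ((Equiv.Perm.sign σ : ℤ) : K) * (c * (A'.submatrix θ id).det) := by
      rw [key]; ring
    exact mul_left_cancel₀ hs this
  · have : ∃ i j, i ≠ j ∧ θ i = θ j := by
      by_contra hcon
      apply hinj
      intro i j hij
      by_contra hne
      exact hcon ⟨i, j, hne, hij⟩
    obtain ⟨i, j, hne, hij⟩ := this
    rw [Matrix.det_zero_of_row_eq hne (by funext b; simp [Matrix.submatrix_apply, hij] : A.submatrix θ id i = A.submatrix θ id j),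
      Matrix.det_zero_of_row_eq hne (by funext b; simp [Matrix.submatrix_apply, hij] : A'.submatrix θ id i = A'.submatrix θ id j),
      mul_zero]

/-- if the `θ₀` rows of `B` form the identity matrix, entries of `B` are minors -/
theorem entry_eq_minor (B : Matrix (Fin n) (Fin d) K) (θ₀ : Fin d → Fin n)
    (hB : B.submatrix θ₀ id = 1) (i : Fin n) (j : Fin d) :
    B i j = (B.submatrix (Function.update θ₀ j i) id).det := by
  have h1 : B.submatrix (Function.update θ₀ j i) id = (1 : Matrix (Fin d) (Fin d) K).updateRow j (B i) := by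
    rw [← hB]
    ext a b
    by_cases hab : a = j
    · subst hab
      simp [Matrix.updateRow_apply]
    · simp [Matrix.updateRow_apply, hab, Function.update_of_ne hab]
  rw [h1, ← Matrix.cramer_transpose_apply, Matrix.transpose_one, Matrix.cramer_one]
  rfl

theorem span_rows_mul_le {p q r : ℕ} (P : Matrix (Fin p) (Fin q) K) (N : Matrix (Fin q) (Fin r) K) :
    Submodule.span K (Set.range (P * N)) ≤ Submodule.span K (Set.range N) := by
  rw [Submodule.span_le]
  rintro _ ⟨i, rfl⟩
  have : (P * N) i = ∑ k, P i k • N k := by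
    funext j
    simp [Matrix.mul_apply, Finset.sum_apply]
  rw [this]
  exact Submodule.sum_mem _ fun k _ => Submodule.smul_mem _ _ (Submodule.subset_span ⟨k, rfl⟩)

theorem span_rows_mul_eq {q r : ℕ} (P : Matrix (Fin q) (Fin q) K) (hP : IsUnit P.det)
    (N : Matrix (Fin q) (Fin r) K) :
    Submodule.span K (Set.range (P * N)) = Submodule.span K (Set.range N) := by
  apply le_antisymm (span_rows_mul_le P N)
  have : N = P⁻¹ * (P * N) := by
    rw [← Matrix.mul_assoc, Matrix.nonsing_inv_mul _ hP, Matrix.one_mul]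
  conv_lhs => rw [this]
  exact span_rows_mul_le _ _

theorem main11249 (A A' : Matrix (Fin n) (Fin d) K) (hA : LinearIndependent K A.transpose)
    (hA' : LinearIndependent K A'.transpose) (c : K) (hc : c ≠ 0)
    (h : ∀ θ : W4bk4grassmannian.Idx d n, (A.submatrix θ.1 id).det = c * (A'.submatrix θ.1 id).det) :
    Submodule.span K (Set.range A.transpose) = Submodule.span K (Set.range A'.transpose) := by
  have hall := minors_all A A' c h
  obtain ⟨θ₀, hθ₀⟩ := exists_minor_ne_zero A hA
  have hθ₀' : (A'.submatrix θ₀ id).det ≠ 0 := by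
    intro h0
    apply hθ₀
    rw [hall, h0, mul_zero]
  set g : Matrix (Fin d) (Fin d) K := (A.submatrix θ₀ id)⁻¹ with hg
  set g' : Matrix (Fin d) (Fin d) K := (A'.submatrix θ₀ id)⁻¹ with hg'
  have hgu : IsUnit g.det := by
    rw [hg, Matrix.det_nonsing_inv]
    exact (Ring.inverse_unit (IsUnit.mk0 _ hθ₀).unit ▸ (IsUnit.mk0 _ hθ₀).unit⁻¹.isUnit :)
  have hgu' : IsUnit g'.det := by
    rw [hg', Matrix.det_nonsing_inv]
    exact (Ring.inverse_unit (IsUnit.mk0 _ hθ₀').unit ▸ (IsUnit.mk0 _ hθ₀').unit⁻¹.isUnit :)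
  have hsub : ∀ (M : Matrix (Fin n) (Fin d) K) (P : Matrix (Fin d) (Fin d) K) (θ : Fin d → Fin n),
      (M * P).submatrix θ id = M.submatrix θ id * P := by
    intro M P θ
    ext a b
    simp [Matrix.mul_apply]
  have hB : (A * g).submatrix θ₀ id = 1 := by
    rw [hsub, hg, Matrix.mul_nonsing_inv _ (IsUnit.mk0 _ hθ₀)]
  have hB' : (A' * g').submatrix θ₀ id = 1 := by
    rw [hsub, hg', Matrix.mul_nonsing_inv _ (IsUnit.mk0 _ hθ₀')]
  have hdetg : g.det = (A.submatrix θ₀ id).det⁻¹ := by
    rw [hg, Matrix.det_nonsing_inv, Ring.inverse_eq_inv']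
  have hdetg' : g'.det = (A'.submatrix θ₀ id).det⁻¹ := by
    rw [hg', Matrix.det_nonsing_inv, Ring.inverse_eq_inv']
  have hBB : A * g = A' * g' := by
    ext i j
    rw [entry_eq_minor _ θ₀ hB, entry_eq_minor _ θ₀ hB', hsub, hsub, Matrix.det_mul, Matrix.det_mul,
      hdetg, hdetg', hall (Function.update θ₀ j i), hall θ₀]
    field_simp
  have e1 : Submodule.span K (Set.range Aᵀ) = Submodule.span K (Set.range (A * g)ᵀ) := by
    rw [Matrix.transpose_mul]
    exact (span_rows_mul_eq gᵀ (by rwa [Matrix.det_transpose]) Aᵀ).symm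
  have e2 : Submodule.span K (Set.range A'ᵀ) = Submodule.span K (Set.range (A' * g')ᵀ) := by
    rw [Matrix.transpose_mul]
    exact (span_rows_mul_eq g'ᵀ (by rwa [Matrix.det_transpose]) A'ᵀ).symm
  rw [e1, e2, hBB]

end Groth.Agent.Lib.Helper5.Plucker
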